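import Mathlib
import Cfsg.Agent.H561.HT.Par
import Cfsg.Agent.H40.PV.GTwoPS
import Cfsg.Agent.H523.FpfChev
import Mathlib.NumberTheory.MulChar.Lemmas

/-!
# S4933: the row `G₂(q)`, `p = 3 ∣ q - 1` (helper561)

`row_three` : for `3 ∣ q - 1` the group `G₂(q)` satisfies `Row 3`.

The linear character of order three of the parabolic subgroup belonging to the long node, given on the torus by the
highest short root, induces an irreducible character of degree `(q + 1) (q⁴ + q² + 1)`, whose 3-part is 3; it is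
invariant under the automorphisms of 3-power order.
-/

set_option autoImplicit false
set_option linter.unusedSectionVars false

open Cfsg

namespace Cfsg.Agent.H561.HT.GT

open CoxeterSystem Cfsg.Agent.ChevalleyStructure.CoxeterGeom Cfsg.Agent.Tits.Roots Cfsg.Agent.Tits.Core
  Cfsg.Agent.Nodes.Reps Cfsg.Agent.Nodes.BNOf Cfsg.Agent.Nodes.Bruhat Cfsg.Agent.Nodes.LeviDec
  Cfsg.Agent.Nodes.StabComb
open Cfsg.Lie Cfsg.Agent.ChevalleyStructure Cfsg.Agent.ChevalleyStructure.Elts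
  Cfsg.Agent.ChevalleyStructure.RootVec Cfsg.Agent.ChevalleyStructure.RootVecTab
  Cfsg.Agent.ChevalleyStructure.NPerm Cfsg.Agent.ChevalleyStructure.CoxeterGeomTypes
open Cfsg.Agent.Nodes.RGDChev Cfsg.Agent.H35.ExcIdx Cfsg.Agent.H35.PoinNum Cfsg.Agent.H115.HC
  Cfsg.Agent.H115.HC.GTwo Cfsg.Agent.H53.HC Cfsg.Agent.H40.PV.GT Cfsg.Agent.H316.HT Cfsg.Agent.H561.HT

universe u

variable {K : Type u} [Field K]

theorem g9 : 9 < chevG2.nroots := by decide +kernel

/-- the exponents: the short roots are distinct modulo 3 -/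
theorem exps3 : ∀ P ∈ PP, (∃ k : Fin 2, vec chevG2 2 P.2 k < 0) ∨ P = (7, 6) ∨
    ∃ s' < chevG2.nroots, (∀ k : Fin 2, vec chevG2 2 s' k = 2 * vec chevG2 2 P.1 k + vec chevG2 2 P.2 k) ∧
      (¬ (3 : ℤ) ∣ chevG2.cartan 0 s' - 1 ∨ ¬ (3 : ℤ) ∣ chevG2.cartan 1 s') := by
  decide +kernel

theorem cart9 : chevG2.cartan 0 9 = 1 ∧ chevG2.cartan 1 9 = 0 := by decide +kernel

theorem neg6 : chevG2.simple 1 = 6 ∧ chevG2.neg 6 = 5 ∧ 6 < chevG2.nroots ∧ 5 < chevG2.nroots := by decide +kernel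

/-- a character of order three of the multiplicative group -/
theorem exists_omega [Fintype K] (h3 : 3 ∣ Fintype.card K - 1) : ∃ ω : Kˣ →* ℂˣ, (∀ x, ω x ^ 3 = 1) ∧
    ∀ c : Kˣ, (∀ x, x ∈ Subgroup.zpowers c) → ∀ z : ℤ, ω c ^ z = 1 → (3 : ℤ) ∣ z := by
  classical
  obtain ⟨ζ, hζ⟩ : ∃ ζ : ℂ, IsPrimitiveRoot ζ 3 := ⟨_, Complex.isPrimitiveRoot_exp 3 (by norm_num)⟩
  obtain ⟨χ, hχ⟩ := MulChar.exists_mulChar_orderOf K h3 hζ
  have hp : Fact (Nat.Prime 3) := ⟨Nat.prime_three⟩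
  have h1 : ∀ x : Kˣ, MulChar.toUnitHom χ x ^ 3 = 1 := by
    intro x
    have h2 : χ ^ 3 = 1 := by rw [← hχ, pow_orderOf_eq_one]
    apply Units.ext
    rw [Units.val_pow_eq_pow_val, MulChar.coe_toUnitHom, ← MulChar.pow_apply_coe, h2, MulChar.one_apply_coe,
      Units.val_one]
  refine ⟨MulChar.toUnitHom χ, h1, fun c hc z hz => ?_⟩
  have h4 : MulChar.toUnitHom χ c ≠ 1 := by
    intro h5
    have h6 : χ = 1 := by
      ext x
      obtain ⟨k, hk⟩ := Subgroup.mem_zpowers_iff.1 (hc x)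
      rw [← MulChar.coe_toUnitHom, ← hk, map_zpow, h5, one_zpow, Units.val_one, MulChar.one_apply_coe]
    rw [h6, orderOf_one] at hχ
    omega
  have h5 : orderOf (MulChar.toUnitHom χ c) = 3 := orderOf_eq_prime (h1 c) h4
  have h6 := orderOf_dvd_iff_zpow_eq_one.2 hz
  rwa [h5] at h6

theorem xx_mem_MJ {r : ℕ} (hr : r < chevG2.nroots) (hv : vec chevG2 2 r = sr 1 ∨ vec chevG2 2 r = -sr 1) (t : K) :
    xx K r t ∈ MJ cs hpG2.isCartan (XX chevG2 2 K) {1} := by
  have key : vec chevG2 2 r ∈ RootsJ cs hpG2.isCartan {1} → xx K r t ∈ MJ cs hpG2.isCartan (XX chevG2 2 K) {1} :=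
    fun h => RGD.le_Sup h ((XX_iff hr rfl).2 ⟨t, rfl⟩)
  apply key
  rcases hv with hv | hv
  · rw [hv]
    exact ⟨isRoot_sr _ _ 1, fun k hk => sr_ne (by rintro rfl; exact hk rfl)⟩
  · rw [hv]
    refine ⟨(isRoot_sr _ _ 1).neg, fun k hk => ?_⟩
    rw [Pi.neg_apply, sr_ne (by rintro rfl; exact hk rfl), neg_zero]

/-- the elements `h_1(c)` are in the derived Levi subgroup -/
theorem hh_mem_MJ (c : K) : hh K 1 c ∈ MJ cs hpG2.isCartan (XX chevG2 2 K) {1} := by
  obtain ⟨e1, e2, l1, l2⟩ := neg6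
  have hx : ∀ t, xx K 6 t ∈ MJ cs hpG2.isCartan (XX chevG2 2 K) {1} := fun t => xx_mem_MJ l1 (Or.inl vec_sr.2.1) t
  have hy : ∀ t, xx K 5 t ∈ MJ cs hpG2.isCartan (XX chevG2 2 K) {1} := fun t => xx_mem_MJ l2 (Or.inr vec_sr.2.2.1) t
  have h1 : hh K 1 c = (xx K 6 c * (xx K 5 (-c⁻¹) * xx K 6 c)) * (xx K 6 (-1) * (xx K 5 (-(-1)⁻¹) * xx K 6 (-1))) := by
    apply Subtype.ext
    change hG hpG2.inList (chevG2.simple 1) c = _
    rw [hG_def, nG_def, nG_def, e1, e2]
    rfl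
  rw [h1]
  exact mul_mem (mul_mem (hx _) (mul_mem (hy _) (hx _))) (mul_mem (hx _) (mul_mem (hy _) (hx _)))

theorem comm_tab : chevG2.commTerms 6 9 = [] ∧ chevG2.commTerms 5 9 = [] ∧ 9 ≠ chevG2.neg 6 ∧ 9 ≠ chevG2.neg 5 := by
  decide +kernel

/-- the highest short root commutes with the derived Levi subgroup of the long node -/
theorem MJ_comm {m : ↥(chevG2.group K)} (hm : m ∈ MJ cs hpG2.isCartan (XX chevG2 2 K) {1}) (u : K) :
    m * xx K 9 u = xx K 9 u * m := by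
  obtain ⟨e1, e2, l1, l2⟩ := neg6
  obtain ⟨c1, c2, c3, c4⟩ := comm_tab
  have h1 : MJ cs hpG2.isCartan (XX chevG2 2 K) {1} ≤ Subgroup.centralizer {xx K 9 u} := by
    refine RGD.Sup_le fun x hx y hy => ?_
    rw [Subgroup.mem_centralizer_singleton_iff]
    have hx1 : x = sr 1 ∨ x = -sr 1 := by
      rcases hx.1.pos_or_neg with h1 | h1
      · exact Or.inl (hx.1.eq_sr h1 1 fun k hk => hx.2 k hk)
      · right
        have h2 := hx.1.neg.eq_sr (neg_nonneg.2 h1) 1 fun k hk => by rw [Pi.neg_apply, hx.2 k hk, neg_zero]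
        rw [← h2, _root_.neg_neg]
    rcases hx1 with rfl | rfl
    · obtain ⟨t, rfl⟩ := (XX_iff l1 vec_sr.2.1).1 hy
      exact Subtype.ext (Cfsg.Agent.Nodes.RGDFold.commute_of_nil hpG2 l1 g9 (by norm_num) c3 c1 t u)
    · obtain ⟨t, rfl⟩ := (XX_iff l2 vec_sr.2.2.1).1 hy
      exact Subtype.ext (Cfsg.Agent.Nodes.RGDFold.commute_of_nil hpG2 l2 g9 (by norm_num) c4 c2 t u)
  have h2 := h1 hm
  rw [Subgroup.mem_centralizer_singleton_iff] at h2
  exact h2

variable [Fintype K]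

/-- the index of the parabolic subgroup of the long node -/
theorem index_eq1 : (PJ CoxeterMatrix.G₂.toCoxeterSystem hpG2.isCartan (TT chevG2 K) (XX chevG2 2 K) {1}).index =
    (Fintype.card K + 1) * (Fintype.card K ^ 4 + Fintype.card K ^ 2 + 1) := by
  obtain ⟨p, hch⟩ := CharP.exists K
  obtain ⟨⟨f, hf⟩, hpp, hcard⟩ := FiniteField.card K p
  have hcard' : Fintype.card K = p ^ f := hcard
  have : Fact p.Prime := ⟨hpp⟩
  have hfin := finite_W hpG2 CoxeterMatrix.G₂.toCoxeterSystem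
  have R := rgd (K := K) hpG2 CoxeterMatrix.G₂.toCoxeterSystem p
  have h2 : 2 ≤ p ^ f := two_le hpp hf.ne'
  have hpr : pr (p ^ f) [2, 6] = ((p ^ f) ^ 2 - 1) * ((p ^ f) ^ 6 - 1) := by
    rw [pr_cons, pr_cons, pr_nil, mul_one]
  have hN : Nat.card ↥(PJ CoxeterMatrix.G₂.toCoxeterSystem hpG2.isCartan (TT chevG2 K) (XX chevG2 2 K) {1}) =
      (p ^ f + 1) * Nat.card ↥(RGD.B CoxeterMatrix.G₂.toCoxeterSystem hpG2.isCartan (TT chevG2 K) (XX chevG2 2 K)) := by
    have h1 := Cfsg.Agent.H554.RG.relIndex_B_PJ_singleton R 1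
    rw [card_XX hpG2 K CoxeterMatrix.G₂.toCoxeterSystem (isRoot_sr _ hpG2.isCartan 1), Nat.card_eq_fintype_card,
      hcard'] at h1
    rw [← h1, mul_comm]
    have h2 := Subgroup.relIndex_mul_relIndex ⊥ _ _ bot_le (B_le_PJ (cs := CoxeterMatrix.G₂.toCoxeterSystem)
      (h := hpG2.isCartan) (T := TT chevG2 K) (X := XX chevG2 2 K) (J := {1}))
    rw [Subgroup.relIndex_bot_left, Subgroup.relIndex_bot_left] at h2
    exact h2.symm
  have h1 := index_split hpG2 K hpp hf.ne' hcard' CoxeterMatrix.G₂.toCoxeterSystem (J := {1}) (N := p ^ f + 1) (d := 1)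
    (P := pr (p ^ f) [2, 6]) (by
      rw [Nat.dvd_one]
      exact hpp.one_lt.ne') (by
      rw [← hcard']
      exact Cfsg.Agent.S1035.result rfl (chevG2, 1) (by simp)) ⟨f * 6, by
      rw [one_mul, Cfsg.Agent.S1059.result rfl, hcard', hpr, pow_mul, mul_assoc]⟩
      (not_dvd_pr hpp hf.ne' _ (by simp)) hN
  rw [hpr] at h1
  rw [hcard']
  obtain ⟨m, hm⟩ := Nat.exists_eq_add_of_le h2
  rw [hm] at h1 ⊢
  have e1 : 2 + m - 1 = m + 1 := by omega
  have e2 : (2 + m) ^ 2 - 1 = (m + 1) * (2 + m + 1) := by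
    rw [show (2 + m) ^ 2 = (m + 1) * (2 + m + 1) + 1 by ring]
    rfl
  have e3 : (2 + m) ^ 6 - 1 = (m + 1) * ((2 + m + 1) * ((2 + m) ^ 4 + (2 + m) ^ 2 + 1)) := by
    rw [show (2 + m) ^ 6 = (m + 1) * ((2 + m + 1) * ((2 + m) ^ 4 + (2 + m) ^ 2 + 1)) + 1 by ring]
    rfl
  rw [e1, e2, e3] at h1
  have h3 : 0 < (2 + m + 1) * (m + 1) ^ 2 := by positivity
  apply Nat.eq_of_mul_eq_mul_right h3
  rw [← mul_assoc, h1]
  ring

theorem fac_three {q : ℕ} (hq : 0 < q) (h3 : 3 ∣ q - 1) : ((q + 1) * (q ^ 4 + q ^ 2 + 1)).factorization 3 = 1 := by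
  obtain ⟨k, hk⟩ := h3
  have hq' : q = 3 * k + 1 := by omega
  subst hq'
  have hn : (3 * k + 1 + 1) * ((3 * k + 1) ^ 4 + (3 * k + 1) ^ 2 + 1) =
      3 * (3 * (27 * k ^ 5 + 54 * k ^ 4 + 45 * k ^ 3 + 20 * k ^ 2 + 5 * k) + 2) := by ring
  rw [hn]
  have hp := Nat.prime_three
  rw [Nat.factorization_mul (by norm_num) (by omega), Finsupp.add_apply, hp.factorization_self,
    Nat.factorization_eq_zero_of_not_dvd (by omega)]

/-- **The row `G₂(q)`, `p = 3 ∣ q - 1`.** -/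
theorem row_three (h3 : 3 ∣ Fintype.card K - 1) : Row 3 ↥(chevG2.group K) := by
  classical
  obtain ⟨r, hch⟩ := CharP.exists K
  obtain ⟨⟨f, hf⟩, hrr, hcard⟩ := FiniteField.card K r
  have hcard' : Fintype.card K = r ^ f := hcard
  have : Fact r.Prime := ⟨hrr⟩
  have hfin := finite_W hpG2 cs
  have hGL : Finite (GL chevG2.Idx K) := by
    have : Finite (Matrix chevG2.Idx chevG2.Idx K) := inferInstance
    infer_instance
  have R := rgd (K := K) hpG2 cs r
  have h1q : 1 < Fintype.card K := Fintype.one_lt_card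
  have h4q : 4 ≤ Fintype.card K := by
    obtain ⟨k, hk⟩ := h3
    omega
  have h3r : 3 ≠ r := by
    rintro rfl
    have h5 : 3 ∣ Fintype.card K := by rw [hcard']; exact dvd_pow_self 3 hf.ne'
    omega
  obtain ⟨c, hc⟩ := IsCyclic.exists_generator (α := Kˣ)
  obtain ⟨ω, hω3, hωc⟩ := exists_omega h3
  obtain ⟨k0, k1⟩ := cart9
  have hT0 : ∀ t : ↥(TT chevG2 K), (t : ↥(chevG2.group K)) ∈ MJ cs hpG2.isCartan (XX chevG2 2 K) {1} →
      (ω.comp (scal K 9 g9)) t = 1 := by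
    intro t ht
    have h5 : scal K 9 g9 t = 1 := scal_unique g9 (scal_spec g9 t) fun u => by
      rw [Units.val_one, one_mul]
      exact MJ_comm ht u
    rw [MonoidHom.comp_apply, h5, map_one]
  have hval : ∀ (i : Fin 2), (ω.comp (scal K 9 g9)) ⟨hh K i c, hh_mem i c.ne_zero⟩ = ω c ^ (chevG2.cartan i 9) := by
    intro i
    rw [MonoidHom.comp_apply, scal_hh, map_zpow]
  refine row_of_rgd (T := TT chevG2 K) R ?_ h3r (Cfsg.Agent.H523.Chev.cycOut_G2 (by omega)) {1}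
    (ω.comp (scal K 9 g9)) (fun t => hω3 _) hT0 ⟨hh K 0 c, hh_mem 0 c.ne_zero⟩ ?_ ?_ ?_ ?_
  · exact G1_eq_top hpG2 cs
  · rw [hval 0]
    intro h5
    have h6 := hωc c hc _ h5
    have h7 : chevG2.cartan ((0 : Fin 2) : ℕ) 9 = 1 := k0
    rw [h7] at h6
    norm_num at h6
  · intro t
    obtain ⟨a, b, ha, hb, e⟩ := exists_hh t.2
    obtain ⟨k, hk⟩ : ∃ k : ℕ, c ^ k = Units.mk0 a ha := by
      have := hc (Units.mk0 a ha)
      rwa [← mem_powers_iff_mem_zpowers] at this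
    refine ⟨k, ?_⟩
    have h5 : hh K 0 (c : K) ^ k = hh K 0 a := by
      have key : ∀ k : ℕ, hh K 0 (c : K) ^ k = hh K 0 ((c : K) ^ k) := by
        intro k
        induction k with
        | zero => rw [pow_zero, pow_zero, hh_one]
        | succ k ih => rw [pow_succ, ih, hh_mul 0 (pow_ne_zero _ c.ne_zero) c.ne_zero, ← pow_succ]
      rw [key, ← Units.val_pow_eq_pow_val, hk]
      rfl
    rw [e]
    show (hh K 0 (c : K) ^ k)⁻¹ * (hh K 0 a * hh K 1 b) ∈ _
    rw [h5, inv_mul_cancel_left]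
    exact hh_mem_MJ b
  · rw [index_eq1]
    exact fac_three (by omega) h3
  · intro w g hg hw h1 h2
    obtain ⟨P, hP, e1, e2⟩ := orbit_PP w⁻¹
    obtain ⟨l1, l2⟩ := PP_lt P hP
    have key : ∀ {s' : ℕ} (hs' : s' < chevG2.nroots), vec chevG2 2 s' = rep cs hpG2.isCartan w⁻¹ (vec chevG2 2 9) →
        ∀ t : ↥(TT chevG2 K), ∃ t' : ↥(TT chevG2 K), (t' : ↥(chevG2.group K)) = g * t * g⁻¹ ∧
          scal K 9 g9 t' = scal K s' hs' t := by
      intro s' hs' e t
      have ht' : g * t * g⁻¹ ∈ TT chevG2 K := by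
        have h5 := Cfsg.Agent.H40.PV.conj_mem_T R hg.inv t.2
        rwa [inv_inv] at h5
      refine ⟨⟨g * t * g⁻¹, ht'⟩, rfl, ?_⟩
      obtain ⟨s'', hs'', e', η, hη⟩ := exists_lin (p := r) hg.inv g9
      obtain rfl : s'' = s' := vec_inj hpG2 hs'' hs' (e'.trans e.symm)
      refine scal_eq g9 _ fun u => ?_
      set c' := scal K s'' hs' t with hc'
      have h1 : ∀ v, (t : ↥(chevG2.group K)) * xx K s'' v = xx K s'' (c' * v) * t := fun v => scal_spec hs' t v
      have h2 := hη (c' * u)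
      calc g * t * g⁻¹ * xx K 9 u = g * (t * (g⁻¹ * xx K 9 u)) := by group
        _ = g * ((t * xx K s'' (η * u)) * g⁻¹) := by rw [hη, mul_assoc]
        _ = g * (xx K s'' (η * (c' * u)) * g⁻¹) * (g * t * g⁻¹) := by
            rw [h1, show (c' : K) * (η * u) = η * (c' * u) by ring]
            group
        _ = g * (g⁻¹ * xx K 9 (c' * u)) * (g * t * g⁻¹) := by rw [h2]
        _ = xx K 9 (c' * u) * (g * t * g⁻¹) := by group
    rcases exps3 P hP with ⟨k, hk⟩ | h5 | ⟨s', hs', hv, h5⟩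
    · exfalso
      rw [e2] at hk
      exact absurd (h1 1 rfl k) (not_le.2 hk)
    · exfalso
      apply hw
      have h6 : w⁻¹ = 1 := by
        refine eq_of_rep (cs := cs) (h := hpG2.isCartan) fun i => ?_
        rw [map_one, Module.End.one_apply]
        have hi : i = 0 ∨ i = 1 := by
          fin_cases i
          · exact Or.inl rfl
          · exact Or.inr rfl
        rcases hi with rfl | rfl
        · rw [← e1, h5]; exact vec_sr.1
        · rw [← e2, h5]; exact vec_sr.2.1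
      rw [inv_eq_one.1 h6]
      exact one_mem _
    · have hv' : vec chevG2 2 s' = rep cs hpG2.isCartan w⁻¹ (vec chevG2 2 9) := by
        have h6 : vec chevG2 2 9 = (2 : ℤ) • (sr 0 : Fin 2 → ℤ) + sr 1 := by
          rw [vec_eqs.1.2]
          funext k
          revert k
          decide
        rw [h6, map_add, map_smul, ← e1, ← e2]
        funext k
        rw [hv k]
        rfl
      have hfin : ∃ i : Fin 2, ω c ^ (chevG2.cartan i s') ≠ ω c ^ (chevG2.cartan i 9) := by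
        rcases h5 with h5 | h5
        · refine ⟨0, fun h6 => h5 ?_⟩
          have h7 := hωc c hc (chevG2.cartan 0 s' - chevG2.cartan 0 9) (by
            rw [zpow_sub]
            exact mul_inv_eq_one.2 h6)
          rwa [k0] at h7
        · refine ⟨1, fun h6 => h5 ?_⟩
          have h7 := hωc c hc (chevG2.cartan 1 s' - chevG2.cartan 1 9) (by
            rw [zpow_sub]
            exact mul_inv_eq_one.2 h6)
          rwa [k1, sub_zero] at h7
      obtain ⟨i, hi⟩ := hfin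
      obtain ⟨t', ht', hs⟩ := key hs' hv' ⟨hh K i c, hh_mem i c.ne_zero⟩
      refine ⟨⟨hh K i c, hh_mem i c.ne_zero⟩, t', ht', ?_⟩
      rw [hval i, MonoidHom.comp_apply, hs, scal_hh, map_zpow]
      exact hi

end Cfsg.Agent.H561.HT.GT
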