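import Mathlib
import Cfsg.Agent.AutOrth.Final
import Cfsg.Agent.ClassicalGeometry.TrialityIndex

/-!
# S4933: automorphisms of `P Q` (dimension 8) fixing an element of order three (helper561)

`mem_range_of_fix` : `t ∈ E Q` with `t ^ 3 = 1`, `rank (t - 1) ≤ 2`; every automorphism of `P Q` fixing the class of `t`
is induced by a semisimilarity.
-/

set_option autoImplicit false
set_option linter.unusedSectionVars false

namespace Cfsg.Agent.H561.HT.Fix

open QuadraticMap Cfsg.Agent.LieClassical.OrthCore Cfsg.Agent.LieClassical.OrthTrans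
  Cfsg.Agent.LieClassical.OrthSimple Cfsg.Agent.AutOrth.Main Cfsg.Agent.AutOrth.Final
  Cfsg.Agent.ClassicalGeometry.OrthAut1 Cfsg.Agent.ClassicalGeometry.OrthAut2
  Cfsg.Agent.ClassicalGeometry.OrthAut3 Cfsg.Agent.ClassicalGeometry.OrthSemi

variable {F V : Type*} [Field F] [AddCommGroup V] [Module F V] {Q : QuadraticForm F V}

/-- one point stabiliser going to a point stabiliser suffices -/
theorem pt_of_one (hG : Good Q) (α : MulAut (P Q)) {x : V} (hx : Q x = 0) (hx0 : x ≠ 0)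
    (h : ∃ y, Q y = 0 ∧ y ≠ 0 ∧ (stab hG (Submodule.span F {x})).map α.toMonoidHom
      = stab hG (Submodule.span F {y})) : Pt hG α := by
  obtain ⟨y, hy, hy0, hxy⟩ := h
  intro x' hx' hx'0
  obtain ⟨p, hp⟩ := exists_pact_eq hG hx hx' hx0 hx'0
  obtain ⟨g, hg⟩ := QuotientGroup.mk_surjective (α p)
  refine ⟨(g : V ≃ₗ[F] V) y, by rw [Q_apply]; exact hy, by simpa using hy0, ?_⟩
  have h1 : stab hG (Submodule.span F {x'}) = (stab hG (Submodule.span F {x})).map (MulAut.conj p).toMonoidHom := by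
    rw [ClassicalGeometry.TrialityIndex.map_conj_stab, hp]
  have h2 : stab hG (Submodule.span F {(g : V ≃ₗ[F] V) y}) =
      (stab hG (Submodule.span F {y})).map (MulAut.conj (α p)).toMonoidHom := by
    rw [ClassicalGeometry.TrialityIndex.map_conj_stab, ← hg, pact_mk, mapHom_span]
  rw [h1, h2, ← hxy, Subgroup.map_map, Subgroup.map_map]
  congr 1
  ext s
  show α (p * s * p⁻¹) = α p * α s * (α p)⁻¹
  rw [map_mul, map_mul, map_inv]

section lin

variable {t : V ≃ₗ[F] V}

/-- the commutator space -/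
def Dt (t : V ≃ₗ[F] V) : Submodule F V := LinearMap.range ((t : V →ₗ[F] V) - LinearMap.id)

theorem sub_mem_Dt (v : V) : t v - v ∈ Dt t := ⟨v, rfl⟩

theorem fix_perp (htO : t ∈ O Q) {c d : V} (hc : t c = c) (hd : d ∈ Dt t) : polar Q c d = 0 := by
  obtain ⟨v, rfl⟩ := hd
  show polar Q c (t v - v) = 0
  have h1 : polar Q (t c) (t v) = polar Q c v := by
    unfold polar
    rw [← map_add, htO, htO, htO]
  rw [hc] at h1
  rw [polar_sub_right, h1, sub_self]

/-- `V = C(t) + D` -/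
theorem exists_decomp (h3 : (3 : F) ≠ 0) (ht : t ^ 3 = 1) (v : V) :
    ∃ c d : V, t c = c ∧ d ∈ Dt t ∧ v = c + d := by
  have ht' : t (t (t v)) = v := by
    have h1 := congrArg (fun f : V ≃ₗ[F] V => f v) ht
    simpa [pow_succ] using h1
  refine ⟨(3 : F)⁻¹ • (v + t v + t (t v)), v - (3 : F)⁻¹ • (v + t v + t (t v)), ?_, ?_, by abel⟩
  · rw [map_smul, map_add, map_add, ht']
    congr 1
    abel
  · have e : v - (3 : F)⁻¹ • (v + t v + t (t v)) =
        (3 : F)⁻¹ • (-(t v - v) - (t v - v) - (t (t v) - t v)) := by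
      have h2 : v = (3 : F)⁻¹ • v + (3 : F)⁻¹ • v + (3 : F)⁻¹ • v := by
        rw [← add_smul, ← add_smul]
        have : (3 : F)⁻¹ + (3 : F)⁻¹ + (3 : F)⁻¹ = 1 := by
          field_simp
          norm_num
        rw [this, one_smul]
      have h4 : v - (3 : F)⁻¹ • (v + t v + t (t v)) = (v - ((3 : F)⁻¹ • v + (3 : F)⁻¹ • v + (3 : F)⁻¹ • v)) +
        (3 : F)⁻¹ • (-(t v - v) - (t v - v) - (t (t v) - t v)) := by module
      rw [← h2, sub_self, zero_add] at h4
      exact h4
    rw [e]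
    apply Submodule.smul_mem
    exact Submodule.sub_mem _ (Submodule.sub_mem _ (Submodule.neg_mem _ (sub_mem_Dt v)) (sub_mem_Dt v)) (sub_mem_Dt _)

/-- two linearly independent fixed vectors in an invariant 4-space -/
theorem exists_two (W : Submodule F V) (hW : Module.finrank F W = 4)
    (hD : Module.finrank F (Dt t) ≤ 2) [FiniteDimensional F V] :
    ∃ w₁ ∈ W, ∃ w₂ ∈ W, t w₁ = w₁ ∧ t w₂ = w₂ ∧ w₁ ≠ 0 ∧ ∀ c : F, w₂ ≠ c • w₁ := by
  let f : W →ₗ[F] Dt t := ((((t : V →ₗ[F] V) - LinearMap.id).rangeRestrict).comp W.subtype)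
  have h1 := LinearMap.finrank_range_add_finrank_ker f
  have h2 : Module.finrank F (LinearMap.range f) ≤ 2 := (Submodule.finrank_le _).trans hD
  have h3 : 2 ≤ Module.finrank F (LinearMap.ker f) := by omega
  have h4 : 1 < Module.finrank F (LinearMap.ker f) := by omega
  have : Nontrivial (LinearMap.ker f) := Module.nontrivial_of_finrank_pos (R := F) (by omega)
  obtain ⟨k₁, hk₁⟩ := exists_ne (0 : LinearMap.ker f)
  have hfix : ∀ k : LinearMap.ker f, t ((k : W) : V) = ((k : W) : V) := by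
    intro k
    have h5 : f (k : W) = 0 := k.2
    have h6 := congrArg Subtype.val h5
    exact sub_eq_zero.1 h6
  have h5 : ∃ k₂ : LinearMap.ker f, ∀ c : F, k₂ ≠ c • k₁ := by
    by_contra hcon
    push Not at hcon
    have h6 : Module.finrank F (LinearMap.ker f) ≤ 1 := finrank_le_one k₁ fun w => by
      obtain ⟨c, hc⟩ := hcon w
      exact ⟨c, hc.symm⟩
    omega
  obtain ⟨k₂, hk₂⟩ := h5
  refine ⟨((k₁ : W) : V), (k₁ : W).2, ((k₂ : W) : V), (k₂ : W).2, hfix _, hfix _, ?_, fun c hc => ?_⟩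
  · intro h
    apply hk₁
    apply Subtype.ext
    apply Subtype.ext
    exact h
  · apply hk₂ c
    apply Subtype.ext
    apply Subtype.ext
    exact hc

end lin

/-- **automorphisms fixing the class of `t`** -/
theorem mem_range_of_fix [Finite F] [FiniteDimensional F V] (hG : Good Q) (h7 : 7 ≤ Module.finrank F V)
    (h3 : (3 : F) ≠ 0) {t : ↥(E Q)} (ht : (t : V ≃ₗ[F] V) ^ 3 = 1)
    (hD : Module.finrank F (Dt (t : V ≃ₗ[F] V)) ≤ 2)
    (hcase : (∃ x : V, x ≠ 0 ∧ Q x = 0 ∧ ∃ c : F, c ≠ 1 ∧ (t : V ≃ₗ[F] V) x = c • x) ∨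
      ((∃ x : V, x ≠ 0 ∧ Q x = 0 ∧ (t : V ≃ₗ[F] V) x = x) ∧ (∃ v : V, (t : V ≃ₗ[F] V) v ≠ v) ∧
        ∀ d ∈ Dt (t : V ≃ₗ[F] V), Q d = 0 → d = 0))
    (α : MulAut (P Q)) (hα : α (t : P Q) = (t : P Q)) : α ∈ (Psi Q).range := by
  have htO : (t : V ≃ₗ[F] V) ∈ O Q := coe_mem_O t
  by_contra hn
  have hnp : ¬ Pt hG α := fun h => hn (mem_range_of_pt hG h7 h)
  have key : ∀ x : V, Q x = 0 → x ≠ 0 → Module.finrank F V = 8 ∧ ∃ W : Submodule F V, TS Q W ∧
      Module.finrank F W = 4 ∧ (stab hG (Submodule.span F {x})).map α.toMonoidHom = stab hG W := by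
    intro x hx hx0
    rcases dichotomy hG h7 α hx hx0 with h | h
    · exact absurd (pt_of_one hG α hx hx0 h) hnp
    · exact h
  have hst : ∀ x : V, (∃ c : F, (t : V ≃ₗ[F] V) x = c • x) → ∀ W : Submodule F V,
      (stab hG (Submodule.span F {x})).map α.toMonoidHom = stab hG W → ∀ w ∈ W, (t : V ≃ₗ[F] V) w ∈ W := by
    rintro x ⟨c, hc⟩ W hW w hw
    have h1 : (t : P Q) ∈ stab hG (Submodule.span F {x}) := mem_stab_of_map_le hG fun y hy => by
      obtain ⟨a, rfl⟩ := Submodule.mem_span_singleton.1 hy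
      rw [map_smul, hc, smul_smul]
      exact Submodule.smul_mem _ _ (Submodule.mem_span_singleton_self x)
    have h2 : (t : P Q) ∈ stab hG W := by
      rw [← hW, ← hα]
      exact ⟨_, h1, rfl⟩
    exact apply_mem_of_mem_stab h2 hw
  rcases hcase with ⟨x, hx0, hx, c, hc1, hxc⟩ | ⟨⟨x, hx0, hx, hxt⟩, ⟨v, hv⟩, han⟩
  · obtain ⟨h8, W, hTS, hW4, hW⟩ := key x hx hx0
    have htW := hst x ⟨c, hxc⟩ W hW
    obtain ⟨w₁, hw₁, w₂, hw₂, e₁, e₂, hw0, hind⟩ := exists_two W hW4 hD
    have hQ1 : Q w₁ = 0 := hTS _ hw₁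
    have hp12 : polar Q w₁ w₂ = 0 := hTS.polar hw₁ hw₂
    have hs : ((sg w₁ w₂ hQ1 hp12 : ↥(E Q)) : P Q) ∈ UP Q W :=
      ⟨_, sg_mem_U hTS hw₁ (fun v hv => hTS.polar hw₂ hv) hQ1 hp12, rfl⟩
    have hUP := map_symm_UP_le hG h7 α hx hx0 hW
    have h1 : α.symm ((sg w₁ w₂ hQ1 hp12 : ↥(E Q)) : P Q) ∈ UP Q (Submodule.span F {x}) := hUP ⟨_, hs, rfl⟩
    obtain ⟨w, hw, e⟩ := (mem_UP_span_iff hG.nondeg hx hx0).1 h1
    -- `t` commutes with both
    have h2 : (t : P Q) * ((sg w₁ w₂ hQ1 hp12 : ↥(E Q)) : P Q) * (t : P Q)⁻¹ =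
        ((sg w₁ w₂ hQ1 hp12 : ↥(E Q)) : P Q) := by
      rw [conj_sg_eq_iff hG hQ1 hw0 hp12 (l := 1) (by rw [e₁, one_smul])]
      exact ⟨0, by rw [e₂, one_smul, sub_self, zero_smul]⟩
    have hα' : α.symm (t : P Q) = (t : P Q) := by
      rw [MulEquiv.symm_apply_eq, hα]
    have h4 : (t : P Q) * ((sg x w hx hw : ↥(E Q)) : P Q) * (t : P Q)⁻¹ = ((sg x w hx hw : ↥(E Q)) : P Q) := by
      have h5 := congrArg α.symm h2
      rw [map_mul, map_mul, map_inv, hα', e] at h5
      exact h5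
    obtain ⟨a, ha⟩ := (conj_sg_eq_iff hG hx hx0 hw hxc).1 h4
    -- `w ∈ D`
    have hc0 : c ≠ 0 := by
      rintro rfl
      rw [zero_smul] at hxc
      exact hx0 ((t : V ≃ₗ[F] V).map_eq_zero_iff.1 hxc)
    have hxD : x ∈ Dt (t : V ≃ₗ[F] V) := by
      have h5 : x = (c - 1)⁻¹ • ((t : V ≃ₗ[F] V) x - x) := by
        have h6 : c • x - x = (c - 1) • x := by module
        rw [hxc, h6, smul_smul, inv_mul_cancel₀ (sub_ne_zero.2 hc1), one_smul]
      rw [h5]
      exact Submodule.smul_mem _ _ (sub_mem_Dt x)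
    have hwD : w ∈ Dt (t : V ≃ₗ[F] V) := by
      have h5 : (1 - c) • w = c • ((t : V ≃ₗ[F] V) w - w) - a • x := by
        rw [← ha]; module
      have h6 : w = (1 - c)⁻¹ • ((1 - c) • w) := by
        rw [smul_smul, inv_mul_cancel₀ (sub_ne_zero.2 (Ne.symm hc1)), one_smul]
      rw [h6, h5]
      exact Submodule.smul_mem _ _ (Submodule.sub_mem _ (Submodule.smul_mem _ _ (sub_mem_Dt w))
        (Submodule.smul_mem _ _ hxD))
    -- `w` is a multiple of `x`
    have hwx : ∃ b : F, w = b • x := by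
      by_contra hcon
      push Not at hcon
      -- `D = ⟨x, w⟩`
      have hli : LinearIndependent F ![x, w] := by
        rw [LinearIndependent.pair_iff' hx0]
        exact fun b hb => hcon b hb.symm
      have hspan : Submodule.span F (Set.range ![x, w]) = Dt (t : V ≃ₗ[F] V) := by
        apply Submodule.eq_of_le_of_finrank_le
        · rw [Submodule.span_le]
          rintro _ ⟨i, rfl⟩
          fin_cases i
          · exact hxD
          · exact hwD
        · rw [finrank_span_eq_card hli]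
          simpa using hD
      have hxD' : ∀ d ∈ Dt (t : V ≃ₗ[F] V), polar Q x d = 0 := by
        intro d hd
        rw [← hspan] at hd
        refine Submodule.span_induction ?_ ?_ ?_ ?_ hd
        · rintro _ ⟨i, rfl⟩
          fin_cases i
          · exact polar_self_of_sing hx
          · exact hw
        · exact polar_zero_right ..
        · intro a b _ _ h1 h2
          rw [polar_add_right, h1, h2, add_zero]
        · intro b a _ h1
          rw [polar_smul_right, h1, smul_zero]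
      have hxC : ∀ v : V, (t : V ≃ₗ[F] V) v = v → polar Q x v = 0 := by
        intro v hv
        rw [polar_comm]
        exact fix_perp htO hv hxD
      apply hx0
      refine hG.nondeg x fun v => ?_
      obtain ⟨c', d, h5, h6, rfl⟩ := exists_decomp h3 ht v
      rw [polar_add_right, hxC c' h5, hxD' d h6, add_zero]
    -- so the Siegel element is trivial
    obtain ⟨b, hb⟩ := hwx
    have h5 : ((sg x w hx hw : ↥(E Q)) : P Q) = 1 := by
      rw [(sg_eq_one_iff hG.nondeg hx hx0 hw).2 ⟨b, hb⟩]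
      rfl
    rw [h5] at e
    have h6 : ((sg w₁ w₂ hQ1 hp12 : ↥(E Q)) : P Q) = 1 := by
      rw [MulEquiv.symm_apply_eq, map_one] at e
      exact e
    have hp10 : polar Q w₁ 0 = 0 := polar_zero_right ..
    have h7' : ((sg w₁ 0 hQ1 hp10 : ↥(E Q)) : P Q) = 1 := by
      rw [(sg_eq_one_iff hG.nondeg hQ1 hw0 hp10).2 ⟨0, by rw [zero_smul]⟩]
      rfl
    rw [← h7', eq_comm, sg_eq_sg_iff hG hQ1 hw0 hp10 hp12] at h6
    obtain ⟨b', hb'⟩ := h6
    exact hind b' (by rw [← hb', sub_zero])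
  · obtain ⟨h8, W, hTS, hW4, hW⟩ := key x hx hx0
    have htW := hst x ⟨1, by rw [hxt, one_smul]⟩ W hW
    have hfix : ∀ w ∈ W, (t : V ≃ₗ[F] V) w = w := by
      intro w hw
      rw [← sub_eq_zero]
      exact han _ (sub_mem_Dt w) (hTS _ (W.sub_mem (htW w hw) hw))
    have hnd : (polarBilin Q).Nondegenerate := by
      constructor
      · intro x hx
        exact hG.nondeg x hx
      · intro x hx
        refine hG.nondeg x fun y => ?_
        rw [polar_comm]
        exact hx y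
    have hsym : (polarBilin Q).IsRefl := by
      intro x y h
      have h1 : polar Q x y = 0 := h
      show polar Q y x = 0
      rw [polar_comm]; exact h1
    have hfr := LinearMap.BilinForm.finrank_orthogonal hnd W
    have hle : W ≤ LinearMap.BilinForm.orthogonal (polarBilin Q) W := by
      intro w hw v hv
      exact hTS.polar hv hw
    have heq : W = LinearMap.BilinForm.orthogonal (polarBilin Q) W := Submodule.eq_of_le_of_finrank_eq hle (by omega)
    have hd : (t : V ≃ₗ[F] V) v - v ∈ W := by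
      rw [heq]
      intro w hw
      exact fix_perp htO (hfix w hw) (sub_mem_Dt v)
    exact hv (sub_eq_zero.1 (han _ (sub_mem_Dt v) (hTS _ hd)))

end Cfsg.Agent.H561.HT.Fix
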